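import Groth.Agent.TorsorLim5.Basic
import Groth.Agent.GrpLim26.Normal
import Groth.Agent.AlgSpLib.MorMore

/-!
# Descent of finite torsors along limits: the main theorem
-/

set_option autoImplicit false
set_option linter.style.haveILetI false
set_option backward.isDefEq.respectTransparency.types false
universe u

namespace Groth.Agent.TorsorLim5
open CategoryTheory CategoryTheory.Limits MonoidalCategory CartesianMonoidalCategory MonObj GrpObj AlgebraicGeometry

variable {S S' S'' : Scheme.{u}}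

/-- The two comparisons of iterated base change agree. -/
theorem cmp_hom_eq {g : S'' ⟶ S'} {f : S' ⟶ S} {p : S'' ⟶ S} (h : g ≫ f = p) (X : Over S) :
    (GrpLim26.cmp h X).hom = (ActBC.bcCompIso g f X h).hom :=
  bc_hom_ext (by rw [GrpLim26.cmp_hom_fst, ActBC.bcCompIso_hom_left_fst])

theorem isFinite_tensor {X Y : Over S} [IsFinite X.hom] [IsFinite Y.hom] : IsFinite (X ⊗ Y).hom :=
  inferInstanceAs (IsFinite (pullback.fst X.hom Y.hom ≫ X.hom))

/-- Restricting a pseudo-torsor along an isomorphism of groups gives a pseudo-torsor. -/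
theorem isPseudoTorsorSch_restrict {G H X : Over S} [GrpObj G] [GrpObj H] (φ : H ⟶ G) [IsMonHom φ] [IsIso φ]
    {a : AlgGrp.Action G X} (h : NonAbH1.IsPseudoTorsorSch a) : NonAbH1.IsPseudoTorsorSch (a.restrict φ) := by
  have e : lift (a.restrict φ).act (snd H X) = (φ ▷ X) ≫ lift a.act (snd G X) := by
    rw [comp_lift, whiskerRight_snd, AlgGrp.Action.restrict_act]
  haveI : IsIso (lift a.act (snd G X)) := h
  unfold NonAbH1.IsPseudoTorsorSch
  rw [e]
  infer_instance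

/-- Descent of a finite torsor along a limit with affine transition maps. -/
theorem exists_stage {k : Type u} [Field k] {I : Type u} [SmallCategory I] [IsCofiltered I] {D : I ⥤ Scheme.{u}}
    {c : Cone D} [∀ (i i' : I) (f : i ⟶ i'), IsAffineHom (D.map f)] [∀ i, CompactSpace (D.obj i)]
    [∀ i, QuasiSeparatedSpace (D.obj i)] (hc : IsLimit c)
    (gT : ∀ i, D.obj i ⟶ Spec (CommRingCat.of k)) (hg : ∀ {i i'} (f : i ⟶ i'), D.map f ≫ gT i' = gT i)
    {sP : c.pt ⟶ Spec (CommRingCat.of k)} (hs : ∀ i, c.π.app i ≫ gT i = sP)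
    (G : Over (Spec (CommRingCat.of k))) [GrpObj G] [IsFinite G.hom] (V : Over c.pt) [IsFinite V.hom]
    (a : AlgGrp.Action (Red.bc sP G) V) (hV : NonAbH1.IsTorsorFor Scheme.fpqcPrecoverage a) :
    ∃ (i : I) (Vi : Over (D.obj i)) (ai : AlgGrp.Action (Red.bc (gT i) G) Vi),
      IsFinite Vi.hom ∧ NonAbH1.IsTorsorFor Scheme.fpqcPrecoverage ai ∧
      Nonempty (NonAbH1.EquivIso (ai.bc (c.π.app i))
        (a.restrict (ActBC.bcCompIso (c.π.app i) (gT i) G (hs i)).hom)) := by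
  haveI hGfp : LocallyOfFinitePresentation G.hom := LocallyOfFinitePresentation.iff_locallyOfFiniteType.2 inferInstance
  haveI hGfl : Flat G.hom := inferInstance
  haveI : Flat (Red.bc sP G).hom := inferInstanceAs (Flat (pullback.snd G.hom _))
  haveI : LocallyOfFinitePresentation (Red.bc sP G).hom :=
    inferInstanceAs (LocallyOfFinitePresentation (pullback.snd G.hom _))
  haveI hlfp : MorphismProperty.DescendsAlong @LocallyOfFinitePresentation
      (@Surjective ⊓ @Flat ⊓ @QuasiCompact : MorphismProperty Scheme.{u}) :=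
    HasRingHomProperty.descendsAlong_flat RingHom.FinitePresentation.codescendsAlong_faithfullyFlat
  haveI hflat : MorphismProperty.DescendsAlong @Flat
      (@Surjective ⊓ @Flat ⊓ @QuasiCompact : MorphismProperty Scheme.{u}) :=
    HasRingHomProperty.descendsAlong_flat AlgSpLib.flat_codescendsAlong
  haveI hV1 : LocallyOfFinitePresentation V.hom :=
    NonAbLib.property_hom @LocallyOfFinitePresentation hlfp hV inferInstance
  haveI hV2 : Flat V.hom := NonAbLib.property_hom @Flat hflat hV inferInstance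
  haveI hV3 : Surjective V.hom := NonAbLib.surjective_hom a hV
  -- the underlying scheme comes from a stage, where it may be taken finite
  obtain ⟨j, Z, hZ, q, _, _, _, hq⟩ := H8Lim.exists_stage_scheme hc V.hom
  obtain ⟨i, φ₁, hfin⟩ := H8Lim.descends_isFinite D c hc (fun f => inferInstance) j hZ inferInstance V.hom q hq
    ‹IsFinite V.hom›
  let X : Over (D.obj i) := Red.bc (D.map φ₁) (Over.mk hZ)
  haveI : IsFinite X.hom := hfin
  haveI : LocallyOfFinitePresentation X.hom := inferInstanceAs (LocallyOfFinitePresentation (pullback.snd hZ _))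
  let ε : Red.bc (c.π.app i) X ≅ V := GrpLim26.cmp (c.w φ₁) (Over.mk hZ) ≪≫
    (Over.isoMk hq.isoPullback hq.isoPullback_hom_snd : V ≅ Red.bc (c.π.app j) (Over.mk hZ)).symm
  let Gi : Over (D.obj i) := Red.bc (gT i) G
  haveI : IsFinite Gi.hom := inferInstanceAs (IsFinite (pullback.snd G.hom _))
  haveI : LocallyOfFinitePresentation Gi.hom := inferInstanceAs (LocallyOfFinitePresentation (pullback.snd G.hom _))
  obtain ⟨_, _, _⟩ := GrpLim26.fp_tensor (G := Gi) (H := X)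
  -- the action map comes from a stage
  let u : Red.bc (c.π.app i) (Gi ⊗ X) ⟶ Red.bc (c.π.app i) X :=
    Functor.OplaxMonoidal.δ (Over.pullback (c.π.app i)) Gi X ≫
      ((ActBC.bcCompIso (c.π.app i) (gT i) G (hs i)).hom ⊗ₘ ε.hom) ≫ a.act ≫ ε.inv
  have hu : Functor.LaxMonoidal.μ (Over.pullback (c.π.app i)) Gi X ≫ u ≫ ε.hom =
      ((ActBC.bcCompIso (c.π.app i) (gT i) G (hs i)).hom ⊗ₘ ε.hom) ≫ a.act := by
    simp only [u, Category.assoc, Functor.Monoidal.μ_δ_assoc, Iso.inv_hom_id, Category.comp_id]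
  obtain ⟨i₁, f, b, hb⟩ := GrpLim26.exists_hom hc u
  have hb' := GrpLim26.IsModel.map_eq (c := c) hb
  rw [cmp_hom_eq, cmp_hom_eq] at hb'
  have hC := compat_of_model (D.map f) (c.π.app i₁) (c.w f) (hg f) (hs i₁) b u ε hu hb'
  let X₁ : Over (D.obj i₁) := Red.bc (D.map f) X
  let G₁ : Over (D.obj i₁) := Red.bc (gT i₁) G
  let ε₁ : Red.bc (c.π.app i₁) X₁ ≅ V := ActBC.bcCompIso (c.π.app i₁) (D.map f) X (c.w f) ≪≫ ε
  generalize hact : ((ActBC.bcCompIso (D.map f) (gT i) G (hg f)).inv ▷ Red.bc (D.map f) X) ≫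
    Functor.LaxMonoidal.μ (Over.pullback (D.map f)) (Red.bc (gT i) G) X ≫ b = act₁ at hC
  change G₁ ⊗ X₁ ⟶ X₁ at act₁
  haveI : IsFinite X₁.hom := inferInstanceAs (IsFinite (pullback.snd X.hom _))
  haveI : LocallyOfFinitePresentation X₁.hom := inferInstanceAs (LocallyOfFinitePresentation (pullback.snd X.hom _))
  haveI : IsFinite G₁.hom := inferInstanceAs (IsFinite (pullback.snd G.hom _))
  haveI : LocallyOfFinitePresentation G₁.hom := inferInstanceAs (LocallyOfFinitePresentation (pullback.snd G.hom _))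
  haveI : IsFinite (G₁ ⊗ X₁).hom := isFinite_tensor
  haveI : LocallyOfFinitePresentation (G₁ ⊗ X₁).hom := GrpLim26.fp_tensor.1
  haveI : IsFinite (X₁ ⊗ X₁).hom := isFinite_tensor
  haveI : LocallyOfFinitePresentation (X₁ ⊗ X₁).hom := GrpLim26.fp_tensor.1
  haveI : IsFinite (𝟙_ (Over (D.obj i₁))).hom := inferInstanceAs (IsFinite (𝟙 (D.obj i₁)))
  haveI : IsFinite (𝟙_ (Over (D.obj i₁)) ⊗ X₁).hom := isFinite_tensor
  haveI : IsFinite (G₁ ⊗ G₁).hom := isFinite_tensor
  haveI : IsFinite ((G₁ ⊗ G₁) ⊗ X₁).hom := isFinite_tensor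
  -- axioms, shear and covering over a common stage
  obtain ⟨hax1, hax2⟩ := hC.axioms
  obtain ⟨k₁, g₁, he1⟩ := GrpLim26.exists_eq hc ((η[G₁] ▷ X₁) ≫ act₁) (λ_ X₁).hom hax1
  obtain ⟨k₂, g₂, he2⟩ := GrpLim26.exists_eq hc ((μ[G₁] ▷ X₁) ≫ act₁)
    ((α_ G₁ G₁ X₁).hom ≫ (G₁ ◁ act₁) ≫ act₁) hax2
  obtain ⟨k₃, g₃, he3⟩ := GrpLim26.exists_isIso hc _ (hC.isIso_shear hV.1)
  obtain ⟨k₄, g₄, he4⟩ := GrpLim26.exists_fppfCovered hc X₁
    (GrpLim26.FppfCovered.of_iso ε₁.symm ⟨V.left, V.hom, 𝟙 _, Category.id_comp _, hV2, hV3, hV1,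
      inferInstance, inferInstance⟩)
  obtain ⟨l₁, r₁, r₂, hr₁⟩ := IsCofiltered.cospan g₁ g₂
  obtain ⟨l₂, r₃, r₄, hr₂⟩ := IsCofiltered.cospan g₃ g₄
  obtain ⟨i₂, r₅, r₆, hr₃⟩ := IsCofiltered.cospan (r₁ ≫ g₁) (r₃ ≫ g₃)
  let g : i₂ ⟶ i₁ := r₅ ≫ r₁ ≫ g₁
  have h1 : (Over.pullback (D.map g)).map ((η[G₁] ▷ X₁) ≫ act₁) = (Over.pullback (D.map g)).map (λ_ X₁).hom :=
    GrpLim26.map_eq_mono r₅ (GrpLim26.map_eq_mono r₁ he1)
  have h2 : (Over.pullback (D.map g)).map ((μ[G₁] ▷ X₁) ≫ act₁) =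
      (Over.pullback (D.map g)).map ((α_ G₁ G₁ X₁).hom ≫ (G₁ ◁ act₁) ≫ act₁) := by
    have h := GrpLim26.map_eq_mono r₅ (GrpLim26.map_eq_mono r₂ he2)
    rw [show g = r₅ ≫ r₂ ≫ g₂ by simp only [g]; rw [hr₁]]
    exact h
  have h3 : IsIso ((Over.pullback (D.map g)).map (lift act₁ (snd G₁ X₁))) := by
    have h := GrpLim26.isIso_map_later r₆ (GrpLim26.isIso_map_later r₃ he3)
    rw [show g = r₆ ≫ r₃ ≫ g₃ by simp only [g]; exact hr₃]
    exact h
  obtain ⟨W, v, w, hw, _, _, _, _, _⟩ : GrpLim26.FppfCovered (Red.bc (D.map g) X₁) := by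
    have h := GrpLim26.fppfCovered_later r₆ (GrpLim26.fppfCovered_later r₄ he4)
    rw [show g = r₆ ≫ r₄ ≫ g₄ by simp only [g]; rw [hr₃, hr₂]]
    exact h
  let A' := actionOfMap (D.map g) act₁ h1 h2
  haveI : IsMonHom (ActBC.bcCompIso (D.map g) (gT i₁) G (hg g)).inv := inferInstance
  let A := A'.restrict (ActBC.bcCompIso (D.map g) (gT i₁) G (hg g)).inv
  refine ⟨i₂, Red.bc (D.map g) X₁, A, inferInstanceAs (IsFinite (pullback.snd X₁.hom _)), ⟨?_, ?_⟩, ?_⟩
  · exact isPseudoTorsorSch_restrict _ ((GrpLim26.isIso_shear_iff (D.map g) act₁).2 h3)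
  · exact ⟨Presieve.singleton v, Scheme.Hom.singleton_mem_fpqcPrecoverage v, fun S' f hf => by
      cases hf; exact ⟨w, hw⟩⟩
  · have hC₂ := hC.later (D.map g) (c.π.app i₂) (c.w g) (hg g) (hs i₂)
    exact hC₂.nonempty_equivIso (A := A)

end Groth.Agent.TorsorLim5
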