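import Groth.Agent.GrpLim26.Torsor
import Groth.Agent.NonAb.SchTorsor
import Groth.Agent.H8Lim.Descent
import Groth.Prelude.Def_ChGrp
import Groth.Prelude.Def_ActBC
import Groth.Prelude.Def_NonAbH2

/-!
# Descent of torsors along limits: raw actions and base change
-/

set_option autoImplicit false
set_option linter.style.haveILetI false
set_option backward.isDefEq.respectTransparency.types false
universe u

namespace Groth.Agent.TorsorLim5
open CategoryTheory CategoryTheory.Limits MonoidalCategory CartesianMonoidalCategory MonObj GrpObj AlgebraicGeometry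

variable {S S' S'' : Scheme.{u}}

/-- Morphisms into a base change are determined by the projection to the original scheme. -/
theorem bc_hom_ext {g : S' ⟶ S} {X : Over S} {T : Over S'} {a b : T ⟶ Red.bc g X}
    (h : a.left ≫ pullback.fst X.hom g = b.left ≫ pullback.fst X.hom g) : a = b :=
  GrpLim26.bc_hom_ext h

/-- Base change of a product against iterated base change. -/
theorem μ_cmp (f : S'' ⟶ S') (g : S' ⟶ S) {d : S'' ⟶ S} (h : f ≫ g = d) (X Y : Over S) :
    Functor.LaxMonoidal.μ (Over.pullback f) (Red.bc g X) (Red.bc g Y) ≫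
      (Over.pullback f).map (Functor.LaxMonoidal.μ (Over.pullback g) X Y) ≫ (ActBC.bcCompIso f g (X ⊗ Y) h).hom =
      ((ActBC.bcCompIso f g X h).hom ⊗ₘ (ActBC.bcCompIso f g Y h).hom) ≫
        Functor.LaxMonoidal.μ (Over.pullback d) X Y := by
  refine bc_hom_ext ?_
  apply pullback.hom_ext <;>
  simp only [Over.comp_left, Category.assoc, ActBC.bcCompIso_hom_left_fst_assoc, ActBC.pullback_map_left_fst_assoc,
    ActBC.μ_left_fst_fst, ActBC.μ_left_fst_snd, ActBC.μ_left_fst_fst_assoc, ActBC.μ_left_fst_snd_assoc]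
  · rw [← Category.assoc _ _ (pullback.fst X.hom d), ActBC.tensorHom_left_fst' (ActBC.bcCompIso f g X h).hom
      (ActBC.bcCompIso f g Y h).hom]
    simp
  · rw [← Category.assoc _ _ (pullback.fst Y.hom d), show ((ActBC.bcCompIso f g X h).hom ⊗ₘ
      (ActBC.bcCompIso f g Y h).hom).left ≫ pullback.snd (Red.bc d X).hom (Red.bc d Y).hom = _ from
      Over.tensorHom_left_snd _ _ _ _]
    simp

/-- The comparison of two base changes of a raw action. -/
theorem bc_bc (f : S'' ⟶ S') (g : S' ⟶ S) {d : S'' ⟶ S} (h : f ≫ g = d) {G X : Over S} (act : G ⊗ X ⟶ X) :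
    Functor.LaxMonoidal.μ (Over.pullback f) (Red.bc g G) (Red.bc g X) ≫
      (Over.pullback f).map (Functor.LaxMonoidal.μ (Over.pullback g) G X ≫ (Over.pullback g).map act) ≫
        (ActBC.bcCompIso f g X h).hom =
      ((ActBC.bcCompIso f g G h).hom ⊗ₘ (ActBC.bcCompIso f g X h).hom) ≫
        Functor.LaxMonoidal.μ (Over.pullback d) G X ≫ (Over.pullback d).map act := by
  rw [Functor.map_comp, Category.assoc, ActBC.bcCompIso_hom_naturality, reassoc_of% (μ_cmp f g h G X)]

section Axioms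
variable (f : S' ⟶ S) {G X : Over S} [GrpObj G] (act : G ⊗ X ⟶ X)

/-- The laws of an action hold after base change if the base changed raw action is an action. -/
theorem map_axioms
    (h1 : η[Red.bc f G] ▷ Red.bc f X ≫ Functor.LaxMonoidal.μ (Over.pullback f) G X ≫ (Over.pullback f).map act =
      (λ_ (Red.bc f X)).hom)
    (h2 : μ[Red.bc f G] ▷ Red.bc f X ≫ Functor.LaxMonoidal.μ (Over.pullback f) G X ≫ (Over.pullback f).map act =
      (α_ (Red.bc f G) (Red.bc f G) (Red.bc f X)).hom ≫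
        (Red.bc f G ◁ (Functor.LaxMonoidal.μ (Over.pullback f) G X ≫ (Over.pullback f).map act)) ≫
          Functor.LaxMonoidal.μ (Over.pullback f) G X ≫ (Over.pullback f).map act) :
    (Over.pullback f).map ((η[G] ▷ X) ≫ act) = (Over.pullback f).map (λ_ X).hom ∧
      (Over.pullback f).map ((μ[G] ▷ X) ≫ act) = (Over.pullback f).map ((α_ G G X).hom ≫ (G ◁ act) ≫ act) := by
  constructor
  · rw [Functor.obj.η_def, comp_whiskerRight, Category.assoc, Functor.LaxMonoidal.μ_natural_left_assoc,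
      ← Functor.map_comp] at h1
    rw [show (λ_ (Red.bc f X)).hom = _ from Functor.LaxMonoidal.left_unitality (Over.pullback f) X] at h1
    simpa [cancel_epi] using h1
  · rw [Functor.obj.μ_def, comp_whiskerRight, Category.assoc, Functor.LaxMonoidal.μ_natural_left_assoc,
      ← Functor.map_comp, MonoidalCategory.whiskerLeft_comp, Category.assoc,
      Functor.LaxMonoidal.μ_natural_right_assoc] at h2
    rw [← cancel_epi (Functor.LaxMonoidal.μ (Over.pullback f) (G ⊗ G) X),
      ← cancel_epi (Functor.LaxMonoidal.μ (Over.pullback f) G G ▷ Red.bc f X)]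
    simp only [Functor.map_comp, Category.assoc, Functor.LaxMonoidal.associativity_assoc] at h2 ⊢
    exact h2

/-- A raw action satisfying the laws after base change gives an action. -/
noncomputable def actionOfMap
    (h1 : (Over.pullback f).map ((η[G] ▷ X) ≫ act) = (Over.pullback f).map (λ_ X).hom)
    (h2 : (Over.pullback f).map ((μ[G] ▷ X) ≫ act) = (Over.pullback f).map ((α_ G G X).hom ≫ (G ◁ act) ≫ act)) :
    AlgGrp.Action (Red.bc f G) (Red.bc f X) where
  act := Functor.LaxMonoidal.μ (Over.pullback f) G X ≫ (Over.pullback f).map act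
  one_act := by
    rw [Functor.obj.η_def, comp_whiskerRight, Category.assoc, Functor.LaxMonoidal.μ_natural_left_assoc,
      ← Functor.map_comp, h1]
    exact (Functor.LaxMonoidal.left_unitality (Over.pullback f) X).symm
  mul_act := by
    rw [Functor.obj.μ_def, comp_whiskerRight, Category.assoc, Functor.LaxMonoidal.μ_natural_left_assoc,
      ← Functor.map_comp, h2, Functor.map_comp, Functor.map_comp, Functor.LaxMonoidal.associativity_assoc,
      ← Functor.LaxMonoidal.μ_natural_right_assoc, MonoidalCategory.whiskerLeft_comp, Category.assoc]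

end Axioms

section Model

variable {k : Type u} [Field k] {P : Scheme.{u}} {sP : P ⟶ Spec (CommRingCat.of k)}
  {G : Over (Spec (CommRingCat.of k))} [GrpObj G] {V : Over P}

/-- A raw action over `T` pulling back to the given action along `π`. -/
def Compat (a : AlgGrp.Action (Red.bc sP G) V) {T : Scheme.{u}} (π : P ⟶ T) (gT : T ⟶ Spec (CommRingCat.of k))
    (hπ : π ≫ gT = sP) {X : Over T} (act : Red.bc gT G ⊗ X ⟶ X) (ε : Red.bc π X ≅ V) : Prop :=
  Functor.LaxMonoidal.μ (Over.pullback π) (Red.bc gT G) X ≫ (Over.pullback π).map act ≫ ε.hom =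
    ((ActBC.bcCompIso π gT G hπ).hom ⊗ₘ ε.hom) ≫ a.act

variable {a : AlgGrp.Action (Red.bc sP G) V} {T T' : Scheme.{u}} {π : P ⟶ T} {gT : T ⟶ Spec (CommRingCat.of k)}
  {hπ : π ≫ gT = sP}

theorem bcComp_assoc (r : T' ⟶ T) (π' : P ⟶ T') (hr : π' ≫ r = π) (hπ : π ≫ gT = sP) {gT' : T' ⟶ Spec (CommRingCat.of k)}
    (hg : r ≫ gT = gT') (hπ' : π' ≫ gT' = sP) :
    (Over.pullback π').map (ActBC.bcCompIso r gT G hg).inv ≫ (ActBC.bcCompIso π' r (Red.bc gT G) hr).hom ≫
      (ActBC.bcCompIso π gT G hπ).hom = (ActBC.bcCompIso π' gT' G hπ').hom := by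
  refine bc_hom_ext ?_
  have h1 : (ActBC.bcCompIso r gT G hg).inv.left ≫ pullback.fst (Red.bc gT G).hom r ≫ pullback.fst G.hom gT =
      pullback.fst G.hom gT' := by
    rw [← ActBC.bcCompIso_hom_left_fst r gT G hg, ← Category.assoc, ← Over.comp_left, Iso.inv_hom_id]
    exact Category.id_comp _
  simp only [Over.comp_left, Category.assoc, ActBC.bcCompIso_hom_left_fst, ActBC.bcCompIso_hom_left_fst_assoc,
    ActBC.pullback_map_left_fst_assoc, h1]

/-- The raw action after a further base change. -/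
noncomputable def laterAct (r : T' ⟶ T) {gT' : T' ⟶ Spec (CommRingCat.of k)} (hg : r ≫ gT = gT') {X : Over T}
    (act : Red.bc gT G ⊗ X ⟶ X) : Red.bc gT' G ⊗ Red.bc r X ⟶ Red.bc r X :=
  ((ActBC.bcCompIso r gT G hg).inv ▷ Red.bc r X) ≫ Functor.LaxMonoidal.μ (Over.pullback r) (Red.bc gT G) X ≫
    (Over.pullback r).map act

/-- A morphism over a further base change modelling the action. -/
theorem compat_of_model (r : T' ⟶ T) (π' : P ⟶ T') (hr : π' ≫ r = π) {gT' : T' ⟶ Spec (CommRingCat.of k)}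
    (hg : r ≫ gT = gT') (hπ' : π' ≫ gT' = sP) {X : Over T}
    (b : Red.bc r (Red.bc gT G ⊗ X) ⟶ Red.bc r X) (u : Red.bc π (Red.bc gT G ⊗ X) ⟶ Red.bc π X) (ε : Red.bc π X ≅ V)
    (hu : Functor.LaxMonoidal.μ (Over.pullback π) (Red.bc gT G) X ≫ u ≫ ε.hom =
      ((ActBC.bcCompIso π gT G hπ).hom ⊗ₘ ε.hom) ≫ a.act)
    (hb : (Over.pullback π').map b ≫ (ActBC.bcCompIso π' r X hr).hom =
      (ActBC.bcCompIso π' r (Red.bc gT G ⊗ X) hr).hom ≫ u) :
    Compat a π' gT' hπ'
      (((ActBC.bcCompIso r gT G hg).inv ▷ Red.bc r X) ≫ Functor.LaxMonoidal.μ (Over.pullback r) (Red.bc gT G) X ≫ b)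
      (ActBC.bcCompIso π' r X hr ≪≫ ε) := by
  unfold Compat
  rw [Iso.trans_hom, Functor.map_comp, Functor.map_comp, Category.assoc, Category.assoc, reassoc_of% hb,
    ← Functor.LaxMonoidal.μ_natural_left_assoc, reassoc_of% (μ_cmp π' r hr (Red.bc gT G) X), hu,
    ← Category.assoc (_ ⊗ₘ _), MonoidalCategory.tensorHom_comp_tensorHom, ← Category.assoc,
    ← MonoidalCategory.tensorHom_id, MonoidalCategory.tensorHom_comp_tensorHom, Category.id_comp,
    bcComp_assoc r π' hr hπ hg hπ']

theorem Compat.later {X : Over T} {act : Red.bc gT G ⊗ X ⟶ X} {ε : Red.bc π X ≅ V}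
    (h : Compat a π gT hπ act ε) (r : T' ⟶ T) (π' : P ⟶ T') (hr : π' ≫ r = π)
    {gT' : T' ⟶ Spec (CommRingCat.of k)} (hg : r ≫ gT = gT') (hπ' : π' ≫ gT' = sP) :
    Compat a π' gT' hπ' (laterAct r hg act) (ActBC.bcCompIso π' r X hr ≪≫ ε) := by
  refine compat_of_model r π' hr hg hπ' ((Over.pullback r).map act) ((Over.pullback π).map act) ε h ?_
  exact ActBC.bcCompIso_hom_naturality π' r hr act

theorem tensorHom_shear {G₁ G₂ X₁ X₂ : Over P} (φ : G₁ ⟶ G₂) (ε : X₁ ≅ X₂) (a₁ : G₁ ⊗ X₁ ⟶ X₁) (a₂ : G₂ ⊗ X₂ ⟶ X₂)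
    (h : a₁ ≫ ε.hom = (φ ⊗ₘ ε.hom) ≫ a₂) :
    lift a₁ (snd G₁ X₁) ≫ (ε.hom ⊗ₘ ε.hom) = (φ ⊗ₘ ε.hom) ≫ lift a₂ (snd G₂ X₂) := by
  rw [lift_map, h, comp_lift, tensorHom_snd]

/-- The action laws of a compatible raw action hold over the limit. -/
theorem Compat.axioms {X : Over T} {act : Red.bc gT G ⊗ X ⟶ X} {ε : Red.bc π X ≅ V}
    (h : Compat a π gT hπ act ε) :
    (Over.pullback π).map ((η[Red.bc gT G] ▷ X) ≫ act) = (Over.pullback π).map (λ_ X).hom ∧
      (Over.pullback π).map ((μ[Red.bc gT G] ▷ X) ≫ act) =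
        (Over.pullback π).map ((α_ (Red.bc gT G) (Red.bc gT G) X).hom ≫ (Red.bc gT G ◁ act) ≫ act) := by
  have he : Functor.LaxMonoidal.μ (Over.pullback π) (Red.bc gT G) X ≫ (Over.pullback π).map act =
      (Red.bc π (Red.bc gT G) ◁ ε.hom) ≫ (a.restrict (ActBC.bcCompIso π gT G hπ).hom).act ≫ ε.inv := by
    rw [AlgGrp.Action.restrict_act, ← cancel_mono ε.hom]
    simp only [Category.assoc, Iso.inv_hom_id, Category.comp_id]
    rw [h, MonoidalCategory.tensorHom_def', Category.assoc]
  refine map_axioms π act ?_ ?_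
  · rw [he, ← whisker_exchange_assoc, reassoc_of% (a.restrict (ActBC.bcCompIso π gT G hπ).hom).one_act,
      MonoidalCategory.leftUnitor_naturality_assoc, Iso.hom_inv_id, Category.comp_id]
  · rw [he, ← whisker_exchange_assoc, reassoc_of% (a.restrict (ActBC.bcCompIso π gT G hπ).hom).mul_act]
    simp only [MonoidalCategory.whiskerLeft_comp, Category.assoc]
    rw [← MonoidalCategory.associator_naturality_right_assoc]
    simp only [← MonoidalCategory.whiskerLeft_comp_assoc, Category.assoc, Iso.inv_hom_id, Category.comp_id]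

/-- The shear map of a compatible raw action is invertible over the limit. -/
theorem Compat.isIso_shear {X : Over T} {act : Red.bc gT G ⊗ X ⟶ X} {ε : Red.bc π X ≅ V}
    (h : Compat a π gT hπ act ε) (ha : NonAbH1.IsPseudoTorsorSch a) :
    IsIso ((Over.pullback π).map (lift act (snd (Red.bc gT G) X))) := by
  rw [← GrpLim26.isIso_shear_iff]
  have e := tensorHom_shear (ActBC.bcCompIso π gT G hπ).hom ε _ a.act
    ((Category.assoc _ _ _).trans h)
  haveI : IsIso (lift a.act (snd (Red.bc sP G) V)) := ha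
  haveI : IsIso (lift (Functor.LaxMonoidal.μ (Over.pullback π) (Red.bc gT G) X ≫ (Over.pullback π).map act)
      (snd (Red.bc π (Red.bc gT G)) (Red.bc π X)) ≫ (ε.hom ⊗ₘ ε.hom)) := by rw [e]; infer_instance
  exact IsIso.of_isIso_comp_right _ (ε.hom ⊗ₘ ε.hom)

/-- Reading a compatible action as an equivariant isomorphism. -/
theorem Compat.nonempty_equivIso {X : Over T} {A : AlgGrp.Action (Red.bc gT G) X} {ε : Red.bc π X ≅ V}
    (h : Compat a π gT hπ A.act ε) :
    Nonempty (NonAbH1.EquivIso (A.bc π) (a.restrict (ActBC.bcCompIso π gT G hπ).hom)) := by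
  refine ⟨⟨ε, ?_⟩⟩
  show (Functor.LaxMonoidal.μ (Over.pullback π) (Red.bc gT G) X ≫ (Over.pullback π).map A.act) ≫ ε.hom =
    (Red.bc π (Red.bc gT G) ◁ ε.hom) ≫ (ActBC.bcCompIso π gT G hπ).hom ▷ V ≫ a.act
  rw [Category.assoc, h, MonoidalCategory.tensorHom_def', Category.assoc]

end Model

end Groth.Agent.TorsorLim5
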